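import Cfsg.Agent.Lib.Helper16.Osima
import Mathlib.RingTheory.LocalRing.ResidueField.Basic
import Mathlib.RepresentationTheory.Irreducible
import Mathlib.RepresentationTheory.Intertwining
import Mathlib.LinearAlgebra.Trace

/-!
# MODREP: modular representations attached to the character-theoretic blocks of the Prelude

Basic definitions for project MODREP (helper3): the residue field `K M` of the local ring at the
prime `M` of the algebraic integers, the reduction map `redC M : ℂ → K M` (total, `0` outside the
local ring), reduced characters `chiBar`, reduced block idempotent `eBar M B` in the group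
algebra over `K M`, the predicate `BelongsTo M B ρ` for a representation `ρ` over `K M`, and the
trace function `trFun ρ`.
-/

set_option autoImplicit false

namespace Cfsg.Agent.Lib.Helper3.ModRep

open Cfsg Cfsg.Agent.Lib.Helper16

section Field

variable (M : Ideal AlgInt) [hMp : M.IsPrime]

/-- The residue field of the local ring at `M`: an algebraic closure of `𝔽_p` when `M` is a
maximal ideal containing `p`. -/
abbrev K : Type := IsLocalRing.ResidueField (localSubring M)

/-- Reduction modulo the local ideal, as a total function on `ℂ` (`0` outside the local ring). -/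
noncomputable def redC (z : ℂ) : K M := by
  classical
  exact if h : MemLocalRing M z then IsLocalRing.residue (localSubring M) ⟨z, h⟩ else 0

variable {M}

theorem redC_of_mem {z : ℂ} (h : MemLocalRing M z) :
    redC M z = IsLocalRing.residue (localSubring M) ⟨z, h⟩ := by
  classical
  unfold redC
  rw [dif_pos h]

theorem redC_add {x y : ℂ} (hx : MemLocalRing M x) (hy : MemLocalRing M y) :
    redC M (x + y) = redC M x + redC M y := by
  rw [redC_of_mem hx, redC_of_mem hy, redC_of_mem (memLocalRing_add hx hy), ← map_add]
  rfl

theorem redC_mul {x y : ℂ} (hx : MemLocalRing M x) (hy : MemLocalRing M y) :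
    redC M (x * y) = redC M x * redC M y := by
  rw [redC_of_mem hx, redC_of_mem hy, redC_of_mem (memLocalRing_mul hx hy), ← map_mul]
  rfl

theorem redC_neg {x : ℂ} (hx : MemLocalRing M x) : redC M (-x) = - redC M x := by
  rw [redC_of_mem hx, redC_of_mem (memLocalRing_neg hx), ← map_neg]
  rfl

theorem redC_sub {x y : ℂ} (hx : MemLocalRing M x) (hy : MemLocalRing M y) :
    redC M (x - y) = redC M x - redC M y := by
  rw [redC_of_mem hx, redC_of_mem hy, redC_of_mem (memLocalRing_sub hx hy), ← map_sub]
  rfl

theorem redC_zero : redC M 0 = 0 := by
  rw [redC_of_mem (memLocalRing_zero hMp.ne_top)]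
  exact map_zero _

theorem redC_one : redC M 1 = 1 := by
  rw [redC_of_mem (memLocalRing_one hMp.ne_top)]
  exact map_one _

theorem redC_eq_zero_iff {x : ℂ} (hx : MemLocalRing M x) :
    redC M x = 0 ↔ MemLocalIdeal M x := by
  rw [redC_of_mem hx, IsLocalRing.residue_eq_zero_iff, maximalIdeal_localSubring, mem_localIdeal]

theorem redC_eq_iff {x y : ℂ} (hx : MemLocalRing M x) (hy : MemLocalRing M y) :
    redC M x = redC M y ↔ MemLocalIdeal M (x - y) := by
  rw [← redC_eq_zero_iff (memLocalRing_sub hx hy), redC_sub hx hy, sub_eq_zero]

theorem redC_sum {ι : Type*} (s : Finset ι) (f : ι → ℂ) (hf : ∀ i ∈ s, MemLocalRing M (f i)) :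
    redC M (∑ i ∈ s, f i) = ∑ i ∈ s, redC M (f i) := by
  classical
  induction s using Finset.induction_on with
  | empty => simp [redC_zero]
  | insert a s ha ih =>
    rw [Finset.sum_insert ha, Finset.sum_insert ha,
      redC_add (hf a (Finset.mem_insert_self a s))
        (memLocalRing_sum s f fun i hi => hf i (Finset.mem_insert_of_mem hi)),
      ih fun i hi => hf i (Finset.mem_insert_of_mem hi)]

theorem redC_natCast (n : ℕ) : redC M (n : ℂ) = (n : K M) := by
  rw [redC_of_mem (memLocalRing_natCast hMp.ne_top n)]
  have : (⟨(n : ℂ), memLocalRing_natCast hMp.ne_top n⟩ : localSubring M) = (n : localSubring M) :=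
    Subtype.ext (by simp)
  rw [this, map_natCast]

theorem redC_surjective : Function.Surjective (redC M) := by
  intro a
  obtain ⟨z, rfl⟩ := IsLocalRing.residue_surjective a
  exact ⟨(z : ℂ), redC_of_mem z.2⟩

end Field

section Group

variable (M : Ideal AlgInt) [hMp : M.IsPrime] {G : Type*} [Group G]

/-- The reduction modulo `M` of a complex-valued function on `G` (used for irreducible
characters, whose values are algebraic integers). -/
noncomputable def chiBar (χ : G → ℂ) : G → K M := fun g => redC M (χ g)

/-- The reduction modulo `M` of the coefficients of the block idempotent of `B`. -/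
noncomputable def cBar (B : Set (IrrCharacter G)) : G → K M := fun g => redC M (blockCoeff B g)

/-- The block idempotent of `B` in the group algebra over the residue field. -/
noncomputable def eBar [Finite G] (B : Set (IrrCharacter G)) : MonoidAlgebra (K M) G :=
  haveI := Fintype.ofFinite G
  ∑ g : G, MonoidAlgebra.single g (cBar M B g)

theorem eBar_eq_sum [Fintype G] (B : Set (IrrCharacter G)) :
    eBar M B = ∑ g : G, MonoidAlgebra.single g (cBar M B g) := by
  unfold eBar
  congr 1
  congr 1
  exact Subsingleton.elim _ _

variable {V : Type*} [AddCommGroup V] [Module (K M) V]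

/-- The action of the block idempotent of `B` on a representation over the residue field. -/
noncomputable def eAct [Finite G] (B : Set (IrrCharacter G)) (ρ : Representation (K M) G V) :
    V →ₗ[K M] V :=
  ρ.asAlgebraHom (eBar M B)

theorem eAct_eq_sum [Fintype G] (B : Set (IrrCharacter G)) (ρ : Representation (K M) G V) :
    eAct M B ρ = ∑ g : G, cBar M B g • ρ g := by
  unfold eAct
  rw [eBar_eq_sum, map_sum]
  exact Finset.sum_congr rfl fun g _ => Representation.asAlgebraHom_single ρ g _

/-- The representation `ρ` over the residue field belongs to the block `B`: the block idempotent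
of `B` acts as the identity. -/
def BelongsTo [Finite G] (B : Set (IrrCharacter G)) (ρ : Representation (K M) G V) : Prop :=
  eAct M B ρ = LinearMap.id

end Group

section Trace

variable {k : Type*} [Field k] {G : Type*} [Group G] {V : Type*} [AddCommGroup V] [Module k V]

/-- The trace function (modular character in the naive sense) of a representation. -/
noncomputable def trFun (ρ : Representation k G V) : G → k := fun g => LinearMap.trace k V (ρ g)

end Trace

end Cfsg.Agent.Lib.Helper3.ModRep
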